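/-
Finite index subgroups of abelian groups avoiding given elements.
-/
import Mathlib

set_option autoImplicit false

universe u

namespace Groth.Agent.FIAb

variable {A : Type u} [AddCommGroup A]

/-- A monolith has prime order and contains all elements of prime order. -/
theorem monolith_prime {a : A} (ha : a ≠ 0) (h : ∀ B : AddSubgroup A, B ≠ ⊥ → a ∈ B) :
    ∃ p : ℕ, p.Prime ∧ p • a = 0 ∧
      ∀ (q : ℕ) (x : A), q.Prime → q • x = 0 → x ≠ 0 → q = p ∧ x ∈ AddSubgroup.zmultiples a := by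
  have hsub : ∀ x : A, x ≠ 0 → a ∈ AddSubgroup.zmultiples x := fun x hx =>
    h _ (by rw [ne_eq, AddSubgroup.zmultiples_eq_bot]; exact hx)
  -- `a` is torsion of prime order
  have hfin : IsOfFinAddOrder a := by
    by_contra hinf
    obtain ⟨k, hk⟩ := AddSubgroup.mem_zmultiples_iff.1 (hsub (2 • a) fun e =>
      hinf (isOfFinAddOrder_iff_nsmul_eq_zero.2 ⟨2, by norm_num, e⟩))
    have : (2 * k - 1) • a = 0 := by
      rw [sub_smul, one_smul, sub_eq_zero, mul_comm, mul_smul]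
      rw [show (2 : ℤ) = ((2 : ℕ) : ℤ) from rfl, natCast_zsmul]
      exact hk
    exact hinf (isOfFinAddOrder_iff_zsmul_eq_zero.2 ⟨2 * k - 1, by omega, this⟩)
  have hp : (addOrderOf a).Prime := by
    have hpos : 0 < addOrderOf a := hfin.addOrderOf_pos
    refine Nat.prime_def.2 ⟨?_, fun m hm => ?_⟩
    · rcases Nat.lt_or_ge (addOrderOf a) 2 with h2 | h2
      · exact absurd (AddMonoid.addOrderOf_eq_one_iff.1 (by omega)) ha
      · exact h2
    · by_cases hma : m • a = 0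
      · exact Or.inr (Nat.dvd_antisymm hm (addOrderOf_dvd_of_nsmul_eq_zero hma))
      · left
        obtain ⟨k, hk⟩ := AddSubgroup.mem_zmultiples_iff.1 (hsub _ hma)
        have h1 : ((m : ℤ) * k - 1) • a = 0 := by
          rw [sub_smul, one_smul, sub_eq_zero, mul_comm, mul_smul]
          simpa using hk
        have h2 := (addOrderOf_dvd_iff_zsmul_eq_zero.2 h1)
        have h3 : (m : ℤ) ∣ addOrderOf a := Int.natCast_dvd_natCast.2 hm
        have h4 : (m : ℤ) ∣ 1 := by
          have := (dvd_mul_right (m : ℤ) k).sub (h3.trans h2)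
          simpa using this
        exact_mod_cast Int.eq_one_of_dvd_one (by positivity) h4
  refine ⟨_, hp, addOrderOf_nsmul_eq_zero a, fun q x hq hqx hx => ?_⟩
  haveI := Fact.mk hq
  have hox : addOrderOf x = q := addOrderOf_eq_prime hqx hx
  obtain ⟨k, hk⟩ := AddSubgroup.mem_zmultiples_iff.1 (hsub x hx)
  have hdvd : addOrderOf a ∣ q := addOrderOf_dvd_of_nsmul_eq_zero (by rw [← hk, smul_comm, hqx, smul_zero])
  have hqa : addOrderOf a = q := (Nat.prime_dvd_prime_iff_eq hp hq).1 hdvd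
  refine ⟨hqa.symm, AddSubgroup.mem_zmultiples_iff.2 ?_⟩
  have hndvd : ¬ (q : ℤ) ∣ k := by
    rintro ⟨l, rfl⟩
    apply ha
    rw [← hk, mul_comm, mul_smul, natCast_zsmul, hqx, smul_zero]
  obtain ⟨u, v, huv⟩ := (Int.isCoprime_iff_gcd_eq_one.2 (by
    have := (Nat.prime_iff_prime_int.1 hq).coprime_iff_not_dvd.2 hndvd
    exact Int.isCoprime_iff_gcd_eq_one.1 this.symm) : IsCoprime k (q : ℤ))
  refine ⟨u, ?_⟩
  calc u • a = (u * k) • x := by rw [← hk, mul_smul]
    _ = (u * k + v * q) • x := by rw [add_smul, mul_smul v, natCast_zsmul, hqx, smul_zero, add_zero]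
    _ = x := by rw [huv, one_smul]

/-- The `n`-torsion of a monolithic group has at most `n` elements. -/
theorem card_torsion_le {a : A} (ha : a ≠ 0) (h : ∀ B : AddSubgroup A, B ≠ ⊥ → a ∈ B) :
    ∀ n : ℕ, 0 < n → Finite {x : A // n • x = 0} ∧ Nat.card {x : A // n • x = 0} ≤ n := by
  obtain ⟨p, hp, hpa, hsoc⟩ := monolith_prime ha h
  intro n
  induction n using Nat.strong_induction_on with
  | _ n ih =>
    intro hn
    rcases Nat.lt_or_ge n 2 with h2 | h2
    · have : n = 1 := by omega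
      subst this
      haveI : Subsingleton {x : A // 1 • x = 0} := ⟨fun x y => by
        have hx := x.2; have hy := y.2
        rw [one_smul] at hx hy
        exact Subtype.ext (hx.trans hy.symm)⟩
      exact ⟨inferInstance, Finite.card_le_one_iff_subsingleton.2 inferInstance⟩
    obtain ⟨q, hq, m, rfl⟩ := Nat.exists_prime_and_dvd (n := n) (by omega)
    have hm : 0 < m := pos_of_mul_pos_right hn (Nat.zero_le _)
    have hq2 := hq.two_le
    obtain ⟨hfm, hcm⟩ := ih m (by nlinarith) hm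
    haveI := hfm
    have hker : ∀ x : A, q • x = 0 → ∃ k : Fin q, x = k.1 • a := by
      intro x hx
      by_cases hx0 : x = 0
      · exact ⟨⟨0, hq.pos⟩, by simp [hx0]⟩
      obtain ⟨hqp, hxa⟩ := hsoc q x hq hx hx0
      subst hqp
      obtain ⟨k, hk⟩ := AddSubgroup.mem_zmultiples_iff.1 hxa
      refine ⟨⟨(k % q).toNat, ?_⟩, ?_⟩
      · have h1 := Int.emod_lt_of_pos k (show (0 : ℤ) < q by exact_mod_cast hq.pos)
        have h2 := Int.emod_nonneg k (show (q : ℤ) ≠ 0 by exact_mod_cast hq.ne_zero)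
        omega
      · rw [← hk, ← natCast_zsmul, Int.toNat_of_nonneg (Int.emod_nonneg k (by exact_mod_cast hq.ne_zero))]
        conv_lhs => rw [← Int.emod_add_ediv_mul k q, add_smul, mul_smul]
        rw [natCast_zsmul, hpa, smul_zero, add_zero]
    classical
    let f : {x : A // (q * m) • x = 0} → {x : A // m • x = 0} := fun x =>
      ⟨q • x.1, by rw [← mul_smul, mul_comm]; exact x.2⟩
    let s : {x : A // m • x = 0} → {x : A // (q * m) • x = 0} := fun y =>
      if h : ∃ x, f x = y then h.choose else ⟨0, smul_zero _⟩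
    have hsurj : ∀ x : {x : A // (q * m) • x = 0}, ∃ p : {x : A // m • x = 0} × Fin q, x.1 = (s p.1).1 + p.2.1 • a := by
      intro x
      have hex : ∃ z, f z = f x := ⟨x, rfl⟩
      have hs : f (s (f x)) = f x := by simp only [s, dif_pos hex]; exact hex.choose_spec
      obtain ⟨k, hk⟩ := hker (x.1 - (s (f x)).1) (by
        rw [smul_sub, sub_eq_zero]; exact (congrArg Subtype.val hs).symm)
      exact ⟨(f x, k), by rw [← hk]; simp⟩
    choose g hg using hsurj
    have hginj : Function.Injective g := fun x y e => Subtype.ext ((hg x).trans (by rw [e]; exact (hg y).symm))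
    refine ⟨Finite.of_injective g hginj, (Nat.card_le_card_of_injective g hginj).trans ?_⟩
    rw [Nat.card_prod, Nat.card_fin, mul_comm]
    exact Nat.mul_le_mul_left q hcm

theorem isTorsion {a : A} (ha : a ≠ 0) (h : ∀ B : AddSubgroup A, B ≠ ⊥ → a ∈ B) (y : A) :
    IsOfFinAddOrder y := by
  by_contra hinf
  obtain ⟨p, hp, hpa, -⟩ := monolith_prime ha h
  have hy : y ≠ 0 := fun e => hinf (e ▸ IsOfFinAddOrder.zero)
  obtain ⟨k, hk⟩ := AddSubgroup.mem_zmultiples_iff.1 (h (AddSubgroup.zmultiples y)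
    (by rw [ne_eq, AddSubgroup.zmultiples_eq_bot]; exact hy))
  have : ((p : ℤ) * k) • y = 0 := by rw [mul_smul, hk, natCast_zsmul, hpa]
  rcases mul_eq_zero.1 (by_contra fun hne =>
    hinf (isOfFinAddOrder_iff_zsmul_eq_zero.2 ⟨_, hne, this⟩)) with h0 | h0
  · exact hp.ne_zero (by exact_mod_cast h0)
  · subst h0
    exact ha (by rw [← hk, zero_smul])

/-- A maximal subgroup avoiding an element. -/
theorem exists_max_avoid (H : AddSubgroup A) {x : A} (hx : x ∉ H) :
    ∃ M : AddSubgroup A, H ≤ M ∧ x ∉ M ∧ ((x : A ⧸ M) ≠ 0) ∧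
      ∀ B : AddSubgroup (A ⧸ M), B ≠ ⊥ → (x : A ⧸ M) ∈ B := by
  obtain ⟨M, hHM, hM⟩ := zorn_le_nonempty₀ {M : AddSubgroup A | x ∉ M} (fun c hc hchain y hy => by
    refine ⟨sSup c, ?_, fun z hz => le_sSup hz⟩
    intro hmem
    obtain ⟨N, hN, hxN⟩ := (AddSubgroup.mem_sSup_of_directedOn ⟨y, hy⟩ hchain.directedOn).1 hmem
    exact hc hN hxN) H hx
  refine ⟨M, hHM, hM.prop, fun e => hM.prop ((QuotientAddGroup.eq_zero_iff x).1 e), fun B hB => ?_⟩
  by_contra hxB
  refine hB ((AddSubgroup.eq_bot_iff_forall _).2 fun b hb => ?_)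
  obtain ⟨b, rfl⟩ := QuotientAddGroup.mk_surjective b
  have hle := hM.le_of_ge (y := B.comap (QuotientAddGroup.mk' M)) hxB fun z hz => by
    rw [AddSubgroup.mem_comap, QuotientAddGroup.mk'_apply, (QuotientAddGroup.eq_zero_iff z).2 hz]
    exact B.zero_mem
  exact (QuotientAddGroup.eq_zero_iff b).2 (hle hb)

theorem finiteIndex_of_finite (M : AddSubgroup A) [Finite (A ⧸ M)] : M.FiniteIndex :=
  AddSubgroup.finiteIndex_of_finite_quotient

/-- Finite index subgroup avoiding `x`, when some `n A + H` avoids `x`. -/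
theorem avoid_of_nsmul (H : AddSubgroup A) {n : ℕ} (hn : 0 < n) (hH : ∀ y : A, n • y ∈ H) {x : A}
    (hx : x ∉ H) : ∃ M : AddSubgroup A, H ≤ M ∧ M.FiniteIndex ∧ x ∉ M := by
  obtain ⟨M, hHM, hxM, hne, hmono⟩ := exists_max_avoid H hx
  haveI : Finite (A ⧸ M) := by
    haveI := (card_torsion_le hne hmono n hn).1
    refine Finite.of_injective (fun q : A ⧸ M => (⟨q, ?_⟩ : {q : A ⧸ M // n • q = 0}))
      fun p q e => congrArg Subtype.val e
    obtain ⟨y, rfl⟩ := QuotientAddGroup.mk_surjective q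
    rw [← QuotientAddGroup.mk_nsmul, QuotientAddGroup.eq_zero_iff]
    exact hHM (hH y)
  exact ⟨M, hHM, finiteIndex_of_finite M, hxM⟩

/-- Finite index subgroup avoiding `x`, for finitely generated quotients. -/
theorem avoid_of_fg (H : AddSubgroup A) [AddGroup.FG (A ⧸ H)] {x : A} (hx : x ∉ H) :
    ∃ M : AddSubgroup A, H ≤ M ∧ M.FiniteIndex ∧ x ∉ M := by
  obtain ⟨M, hHM, hxM, hne, hmono⟩ := exists_max_avoid H hx
  haveI : AddGroup.FG (A ⧸ M) := AddGroup.fg_of_surjective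
    (f := QuotientAddGroup.map H M (AddMonoidHom.id A) hHM) fun q => by
      obtain ⟨y, rfl⟩ := QuotientAddGroup.mk_surjective q
      exact ⟨y, rfl⟩
  haveI : Finite (A ⧸ M) := AddCommGroup.finite_of_fg_torsion _ fun y => isTorsion hne hmono y
  exact ⟨M, hHM, finiteIndex_of_finite M, hxM⟩

/-- If no nonzero element of `A/H` is divisible, finite index subgroups above `H` separate. -/
theorem avoid_of_not_divisible (H : AddSubgroup A)
    (hdiv : ∀ q : A ⧸ H, (∀ n : ℕ, 0 < n → ∃ r : A ⧸ H, n • r = q) → q = 0) {x : A} (hx : x ∉ H) :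
    ∃ M : AddSubgroup A, H ≤ M ∧ M.FiniteIndex ∧ x ∉ M := by
  have : ¬ ∀ n : ℕ, 0 < n → ∃ r : A ⧸ H, n • r = (x : A ⧸ H) := fun h =>
    hx ((QuotientAddGroup.eq_zero_iff x).1 (hdiv _ h))
  push Not at this
  obtain ⟨n, hn, hne⟩ := this
  obtain ⟨M, hM, hfi, hxM⟩ := avoid_of_nsmul (H ⊔ (nsmulAddMonoidHom n : A →+ A).range) hn
    (fun y => AddSubgroup.mem_sup_right ⟨y, rfl⟩) (x := x) (fun hmem => by
      obtain ⟨h, hh, _, ⟨y, rfl⟩, e⟩ := AddSubgroup.mem_sup.1 hmem
      refine hne (y : A ⧸ H) ?_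
      rw [← e, QuotientAddGroup.mk_add, (QuotientAddGroup.eq_zero_iff h).2 hh, zero_add]
      rfl)
  exact ⟨M, le_sup_left.trans hM, hfi, hxM⟩

/-- Combining avoidance for finitely many elements. -/
theorem avoid_all (H : AddSubgroup A) {κ : Type u} [Finite κ] (x : κ → A)
    (h : ∀ k, ∃ M : AddSubgroup A, H ≤ M ∧ M.FiniteIndex ∧ x k ∉ M) :
    ∃ M : AddSubgroup A, H ≤ M ∧ M.FiniteIndex ∧ ∀ k, x k ∉ M := by
  choose M hM hfi hx using h
  exact ⟨⨅ k, M k, le_iInf hM, AddSubgroup.finiteIndex_iInf hfi,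
    fun k hk => hx k (AddSubgroup.mem_iInf.1 hk k)⟩

/-- The extension of the separation to a finite index subgroup of a subgroup. -/
theorem separate_subgroup {A' : Type u} [AddCommGroup A'] (i : A' →+ A) (H : AddSubgroup A)
    (A₀ : AddSubgroup A') [A₀.FiniteIndex]
    (hH : ∀ a : A', a ∉ A₀ → i a ∉ A₀.map i ⊔ H)
    (havoid : ∀ x : A, x ∉ A₀.map i ⊔ H →
      ∃ M : AddSubgroup A, A₀.map i ⊔ H ≤ M ∧ M.FiniteIndex ∧ x ∉ M) :
    ∃ M : AddSubgroup A, H ≤ M ∧ M.FiniteIndex ∧ M.comap i ≤ A₀ := by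
  haveI : Finite (A' ⧸ A₀) := AddSubgroup.finite_quotient_of_finiteIndex
  obtain ⟨M, hM, hfi, hx⟩ := avoid_all (A₀.map i ⊔ H)
    (fun q : {q : A' ⧸ A₀ // q ≠ 0} => i q.1.out) fun q => havoid _ (hH _ fun hm =>
      q.2 (by rw [← Quotient.out_eq q.1]; exact (QuotientAddGroup.eq_zero_iff _).2 hm))
  refine ⟨M, le_sup_right.trans hM, hfi, fun a ha => ?_⟩
  by_contra hn
  refine hx ⟨(a : A' ⧸ A₀), fun e => hn ((QuotientAddGroup.eq_zero_iff a).1 e)⟩ ?_
  obtain ⟨h, hh⟩ := QuotientAddGroup.mk_out_eq_mul A₀ a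
  change i (Quotient.out (a : A' ⧸ A₀)) ∈ M
  rw [hh, map_add]
  exact M.add_mem ha (hM (AddSubgroup.mem_sup_left ⟨h, h.2, rfl⟩))

end Groth.Agent.FIAb
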