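/-
Components of maps of profinite completions.
-/
import Groth.Agent.FIAb.Basic
import Mathlib

set_option autoImplicit false
set_option backward.isDefEq.respectTransparency false

universe u

open CategoryTheory ProfiniteGrp ProfiniteGrp.ProfiniteCompletion

namespace Groth.Agent.FIAb

variable {G H : GrpCat.{u}}

theorem map_etaFn (f : G ⟶ H) (g : G) :
    (profiniteCompletion.map f).hom (etaFn G g) = etaFn H (f g) :=
  ConcreteCategory.congr_hom (lift_eta (f ≫ eta H)) g

theorem map_apply (f : G ⟶ H) (x : completion G) (N : FiniteIndexNormalSubgroup H) :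
    ((profiniteCompletion.map f).hom x).val N =
      QuotientGroup.map (N.comap f.hom).toSubgroup N.toSubgroup f.hom (fun _ h => h)
        (x.val (N.comap f.hom)) := by
  refine congrFun (DenseRange.equalizer (β := completion G) (γ := ((diagram H).obj N : Type u))
    (g := fun x : completion G => ((profiniteCompletion.map f).hom x).val N)
    (h := fun x : completion G =>
      (QuotientGroup.map (N.comap f.hom).toSubgroup N.toSubgroup f.hom (fun _ h => h)
        (x.val (N.comap f.hom)) : (diagram H).obj N)) (denseRange (G := G))
    ?_ ?_ ?_) x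
  · exact ((continuous_apply N).comp continuous_subtype_val).comp (profiniteCompletion.map f).hom.continuous_toFun
  · haveI : DiscreteTopology ((diagram G).obj (N.comap f.hom)) := ⟨rfl⟩
    exact (continuous_of_discreteTopology (α := (diagram G).obj (N.comap f.hom))).comp
      ((continuous_apply _).comp continuous_subtype_val)
  · funext g
    change ((profiniteCompletion.map f).hom (etaFn G g)).val N = _
    rw [map_etaFn]
    rfl

theorem mem_range_of_approx (f : G ⟶ H) (x : completion H)
    (h : ∀ N : FiniteIndexNormalSubgroup H, ∃ g : G, QuotientGroup.mk (f g) = x.val N) :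
    x ∈ Set.range (profiniteCompletion.map f).hom := by
  have hc : IsClosed (Set.range (profiniteCompletion.map f).hom) :=
    (isCompact_range (profiniteCompletion.map f).hom.continuous_toFun).isClosed
  rw [← hc.closure_eq, mem_closure_iff]
  rintro U ⟨s, hs, rfl⟩ hxU
  rcases (isOpen_pi_iff.mp hs) _ hxU with ⟨J, fJ, hJ1, hJ2⟩
  let M : Subgroup H := iInf fun (j : J) => j.val
  have hM : M.Normal := Subgroup.normal_iInf_normal fun j => inferInstance
  have hMFinite : M.FiniteIndex := by
    apply Subgroup.finiteIndex_iInf
    infer_instance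
  let m : FiniteIndexNormalSubgroup H := { toSubgroup := M }
  obtain ⟨g, hg⟩ := h m
  refine ⟨(profiniteCompletion.map f).hom (etaFn G g), ?_, ⟨_, rfl⟩⟩
  refine hJ2 fun a ha => ?_
  rw [map_etaFn]
  have h2 := x.property (homOfLE (iInf_le (fun (j : J) => (j.val.toSubgroup)) ⟨a, ha⟩) : m ⟶ a)
  have h3 : x.val a = (QuotientGroup.mk (f g) : (H : Type u) ⧸ a.toSubgroup) := by
    rw [← h2, ← hg]
    rfl
  have h4 := (hJ1 a ha).2
  rw [h3] at h4
  exact h4

end Groth.Agent.FIAb
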