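/-
Open subgroups of finite index in topological abelian groups; characters; completions.
-/
import Groth.Agent.FIAb.Basic
import Groth.Prelude.Def_W4c61motalbdualityCompl
import Mathlib

set_option autoImplicit false

universe u v

open Topology Pointwise

namespace Groth.Agent.FIAb

variable {B : Type u} [AddCommGroup B] [TopologicalSpace B] [IsTopologicalAddGroup B]

theorem exists_openSubgroup_subset [T2Space B] [LocallyCompactSpace B] [TotallyDisconnectedSpace B]
    {N : Set B} (hN : N ∈ 𝓝 (0 : B)) : ∃ U : AddSubgroup B, IsOpen (U : Set B) ∧ (U : Set B) ⊆ N := by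
  obtain ⟨C, hC, hCN, hCc⟩ := LocallyCompactSpace.local_compact_nhds (0 : B) N hN
  obtain ⟨W, hW, h0W, hWC⟩ :=
    (loc_compact_Haus_tot_disc_of_zero_dim (H := B)).exists_subset_of_mem_open
      (mem_interior_iff_mem_nhds.2 hC) isOpen_interior
  have hWc : IsCompact W := hCc.of_isClosed_subset hW.1 (hWC.trans interior_subset)
  obtain ⟨V, hV, hWV⟩ := compact_open_separated_add_right hWc hW.2 subset_rfl
  let S : AddSubgroup B :=
    { carrier := {g | ∀ w, w + g ∈ W ↔ w ∈ W}
      zero_mem' := fun w => by rw [add_zero]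
      add_mem' := fun {a b} ha hb w => by rw [← add_assoc, hb, ha]
      neg_mem' := fun {a} ha w => by
        have := ha (w + -a)
        rw [neg_add_cancel_right] at this
        exact this.symm }
  refine ⟨S, S.isOpen_of_mem_nhds (g := 0) (Filter.mem_of_superset (Filter.inter_mem hV (neg_mem_nhds_zero B hV))
    fun g hg w => ⟨fun h => ?_, fun h => hWV (Set.add_mem_add h hg.1)⟩), fun g hg => ?_⟩
  · have := hWV (Set.add_mem_add h (Set.mem_neg.1 hg.2))
    rwa [add_neg_cancel_right] at this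
  · have h := (hg 0).2 h0W
    rw [zero_add] at h
    exact hCN (interior_subset (hWC h))

theorem fg_quotient (hcg : ∃ K : Set B, IsCompact K ∧ AddSubgroup.closure K = ⊤) (U : AddSubgroup B)
    (hU : IsOpen (U : Set B)) : AddGroup.FG (B ⧸ U) := by
  classical
  obtain ⟨K, hK, hgen⟩ := hcg
  obtain ⟨s, hs⟩ := hK.elim_finite_subcover (fun b : B => b +ᵥ (U : Set B)) (fun b => hU.vadd b)
    fun b _ => Set.mem_iUnion.2 ⟨b, 0, U.zero_mem, by simp⟩
  refine ⟨⟨s.image (QuotientAddGroup.mk : B → B ⧸ U), ?_⟩⟩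
  rw [eq_top_iff]
  rintro q -
  obtain ⟨b, rfl⟩ := QuotientAddGroup.mk_surjective q
  have hb : b ∈ AddSubgroup.closure K := hgen ▸ AddSubgroup.mem_top b
  induction hb using AddSubgroup.closure_induction with
  | mem x hx =>
    obtain ⟨c, hc, w, hw, rfl⟩ := Set.mem_iUnion₂.1 (hs hx)
    refine AddSubgroup.subset_closure (Finset.mem_coe.2 (Finset.mem_image.2 ⟨c, hc, ?_⟩))
    simp [(QuotientAddGroup.eq_zero_iff w).2 hw]
  | zero => exact AddSubgroup.zero_mem _
  | add x y _ _ hx hy => rw [QuotientAddGroup.mk_add]; exact AddSubgroup.add_mem _ hx hy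
  | neg x _ hx => rw [QuotientAddGroup.mk_neg]; exact AddSubgroup.neg_mem _ hx

theorem isOpen_of_le {U M : AddSubgroup B} (hU : IsOpen (U : Set B)) (h : U ≤ M) : IsOpen (M : Set B) :=
  AddSubgroup.isOpen_mono h hU

/-- A character extends, continuously, once it kills the trace of an open subgroup. -/
theorem extend {A : Type v} [AddCommGroup A] (i : A →+ B) (χ : A →+ ℚ ⧸ AddSubgroup.zmultiples (1 : ℚ))
    (U : AddSubgroup B) (hU : IsOpen (U : Set B)) (h : U.comap i ≤ χ.ker) :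
    ∃ ψ : B →+ ℚ ⧸ AddSubgroup.zmultiples (1 : ℚ), IsOpen (ψ.ker : Set B) ∧ ψ.comp i = χ := by
  let f : (A ⧸ U.comap i) →+ (B ⧸ U) := QuotientAddGroup.map _ _ i le_rfl
  have hf : Function.Injective f := by
    rw [injective_iff_map_eq_zero]
    intro q hq
    obtain ⟨a, rfl⟩ := QuotientAddGroup.mk_surjective q
    exact (QuotientAddGroup.eq_zero_iff a).2 ((QuotientAddGroup.eq_zero_iff (i a)).1 hq)
  obtain ⟨ψ, hψ⟩ := CharacterModule.dual_surjective_of_injective f.toIntLinearMap hf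
    (QuotientAddGroup.lift (U.comap i) χ h : (A ⧸ U.comap i) →+ AddCircle (1 : ℚ))
  refine ⟨(ψ : (B ⧸ U) →+ ℚ ⧸ AddSubgroup.zmultiples (1 : ℚ)).comp (QuotientAddGroup.mk' U),
    isOpen_of_le hU fun u hu => ?_, AddMonoidHom.ext fun a => ?_⟩
  · change ψ (u : B ⧸ U) = 0
    rw [(QuotientAddGroup.eq_zero_iff u).2 hu, map_zero]
  · exact DFunLike.congr_fun hψ (a : A ⧸ U.comap i)

open W4c61motalbduality in
/-- Existence of points of the completion with prescribed components. -/
theorem exists_of_fip {A : Type v} [AddCommGroup A] [TopologicalSpace A] {κ : Type*} (U : κ → OpenFI A)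
    (S : ∀ k, Set (A ⧸ (U k).toAddSubgroup))
    (h : ∀ u : Finset κ, ∃ a : A, ∀ k ∈ u, (a : A ⧸ (U k).toAddSubgroup) ∈ S k) :
    ∃ x : FICompl A, ∀ k, x.1 (U k) ∈ S k := by
  classical
  letI : ∀ V : OpenFI A, TopologicalSpace (A ⧸ V.toAddSubgroup) := fun _ => ⊥
  haveI : ∀ V : OpenFI A, @DiscreteTopology (A ⧸ V.toAddSubgroup) ⊥ := fun _ => ⟨rfl⟩
  haveI : ∀ V : OpenFI A, Finite (A ⧸ V.toAddSubgroup) := fun V =>
    haveI := V.finiteIndex'
    AddSubgroup.finite_quotient_of_finiteIndex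
  let P := ∀ V : OpenFI A, A ⧸ V.toAddSubgroup
  let K : κ ⊕ (Σ' (V W : OpenFI A), V.toAddSubgroup ≤ W.toAddSubgroup) → Set P := fun s => Sum.elim
    (fun k => (fun x : P => x (U k)) ⁻¹' S k)
    (fun p => (fun x : P => (x p.1, x p.2.1)) ⁻¹'
      {q : (A ⧸ p.1.toAddSubgroup) × (A ⧸ p.2.1.toAddSubgroup) |
        ∀ a : A, q.1 = QuotientAddGroup.mk a → q.2 = QuotientAddGroup.mk a}) s
  have hK : ∀ s, IsClosed (K s) := by
    rintro (k | ⟨V, W, hVW⟩)
    · exact (isClosed_discrete (S k)).preimage (continuous_apply _)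
    · exact (isClosed_discrete _).preimage (Continuous.prodMk (continuous_apply (A := fun V : OpenFI A => A ⧸ V.toAddSubgroup) V) (continuous_apply (A := fun V : OpenFI A => A ⧸ V.toAddSubgroup) W))
  have hne : (⋂ s, K s).Nonempty := by
    by_contra hemp
    obtain ⟨u, hu⟩ := isCompact_univ.elim_finite_subfamily_closed K hK
      (by rw [Set.univ_inter]; exact Set.not_nonempty_iff_eq_empty.1 hemp)
    obtain ⟨a, ha⟩ := h u.toLeft
    rw [Set.univ_inter] at hu
    refine Set.eq_empty_iff_forall_notMem.1 hu (fun V => (a : A ⧸ V.toAddSubgroup)) (Set.mem_iInter₂.2 ?_)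
    rintro (k | p) hs
    · exact ha k (Finset.mem_toLeft.2 hs)
    · intro b hb
      exact QuotientAddGroup.eq.2 (p.2.2 (QuotientAddGroup.eq.1 hb))
  obtain ⟨x, hx⟩ := hne
  rw [Set.mem_iInter] at hx
  refine ⟨⟨x, fun V W hVW => ?_⟩, fun k => hx (Sum.inl k)⟩
  obtain ⟨a, ha⟩ := QuotientAddGroup.mk_surjective (x V)
  have h2 : x W = (a : A ⧸ W.toAddSubgroup) := hx (Sum.inr ⟨V, W, hVW⟩) a ha.symm
  rw [h2, ← ha]
  rfl

end Groth.Agent.FIAb
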